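import Cfsg.Agent.H509.WeakBlock
import Cfsg.Agent.LieExceptional.ZTCount

/-!
# S4095 at the prime 2 (helper509): tools for the rows (helper528)

* `exists_elem` : a nontrivial `O_2(H)` contains a nontrivial normal elementary abelian subgroup `Z` of `H`;
* `card_le_orbit` : `|H| ≤ (|Z| - 1) |C_H(t)|`, `1 ≠ t ∈ Z`;
* `pCore_eq_bot_of_odd`, `pCore_eq_bot_of_core` : `O_2(H) = 1` if `|H|` or `O_{3'}(H)` is odd;
* `pCore_eq_bot_of_quot` : `O_2(H) = 1` if `W` is a normal subgroup of odd order with `H/W` simple and not a 2-group;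
* `FactA.congr`, `factB_of_equiv`.
-/

set_option autoImplicit false

namespace Cfsg.Agent.H528.SuzTwo

open Subgroup Cfsg
open Cfsg.Agent.H509.Weak

section

variable {H : Type*} [Group H] [Finite H]

theorem exists_elem (h : pCore 2 H ≠ ⊥) :
    ∃ Z : Subgroup H, Z.Normal ∧ IsPGroup 2 Z ∧ Z ≠ ⊥ ∧ ∀ z ∈ Z, z * z = 1 := by
  have hF : Fact (Nat.Prime 2) := ⟨Nat.prime_two⟩
  have hn := Lib.Cores.pCore_normal (G := H) 2
  have hp := Lib.Cores.pCore_isPGroup (G := H) 2
  set R := pCore 2 H with hR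
  let Z : Subgroup H :=
    { carrier := {z | z ∈ R ∧ (∀ r ∈ R, z * r = r * z) ∧ z * z = 1}
      one_mem' := ⟨one_mem _, fun r _ => by rw [one_mul, mul_one], mul_one 1⟩
      mul_mem' := by
        rintro a b ⟨ha, ha', ha2⟩ ⟨hb, hb', hb2⟩
        refine ⟨mul_mem ha hb, fun r hr => ?_, ?_⟩
        · rw [mul_assoc, hb' r hr, ← mul_assoc, ha' r hr, mul_assoc]
        · calc a * b * (a * b) = a * (b * a) * b := by group
            _ = a * (a * b) * b := by rw [hb' a ha]
            _ = (a * a) * (b * b) := by group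
            _ = 1 := by rw [ha2, hb2, one_mul]
      inv_mem' := by
        rintro a ⟨ha, ha', ha2⟩
        have : a⁻¹ = a := inv_eq_of_mul_eq_one_left ha2
        rw [this]
        exact ⟨ha, ha', ha2⟩ }
  refine ⟨Z, ⟨?_⟩, hp.to_le fun z hz => hz.1, ?_, fun z hz => hz.2.2⟩
  · rintro z ⟨hz, hz', hz2⟩ g
    refine ⟨hn.conj_mem z hz g, fun r hr => ?_, ?_⟩
    · have h1 := hz' _ (hn.conj_mem r hr g⁻¹)
      rw [inv_inv] at h1
      calc g * z * g⁻¹ * r = g * (z * (g⁻¹ * r * g)) * g⁻¹ := by group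
        _ = r * (g * z * g⁻¹) := by rw [h1]; group
    · calc g * z * g⁻¹ * (g * z * g⁻¹) = g * (z * z) * g⁻¹ := by group
        _ = 1 := by rw [hz2]; group
  · intro hZ
    have hnt : Nontrivial R := (Subgroup.nontrivial_iff_ne_bot R).2 h
    have h1 := hp.center_nontrivial
    obtain ⟨n, hn'⟩ := IsPGroup.iff_card.1 (hp.to_subgroup (center R))
    have h2 : 2 ∣ Nat.card (center R) := by
      rw [hn']
      refine dvd_pow_self 2 fun h0 => ?_
      rw [h0, pow_zero] at hn'
      exact (Finite.one_lt_card_iff_nontrivial.2 h1).ne' hn'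
    obtain ⟨z, hz⟩ := exists_prime_orderOf_dvd_card' 2 h2
    have h3 : ((z : R) : H) ∈ Z := by
      refine ⟨(z : R).2, fun r hr => ?_, ?_⟩
      · have h4 := mem_center_iff.1 z.2 ⟨r, hr⟩
        exact (congrArg Subtype.val h4).symm
      · have h4 : z ^ 2 = 1 := by rw [← hz, pow_orderOf_eq_one]
        rw [pow_two] at h4
        exact congrArg (fun y : center R => ((y : R) : H)) h4
    rw [hZ, mem_bot] at h3
    have h4 : z = 1 := Subtype.ext (Subtype.ext h3)
    rw [h4, orderOf_one] at hz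
    norm_num at hz

theorem card_le_orbit {Z : Subgroup H} (hn : Z.Normal) {t : H} (ht : t ∈ Z) (ht1 : t ≠ 1) {m c : ℕ}
    (hZ : Nat.card Z ≤ m + 1) (hc : Nat.card (centralizer ({t} : Set H)) ≤ c) : Nat.card H ≤ m * c := by
  classical
  have h1 := LieExceptional.ZTCount.class_card t
  have h2 : Nat.card {y : H // IsConj t y} ≤ m := by
    have h3 : Nat.card (Option {y : H // IsConj t y}) ≤ Nat.card Z := by
      refine Nat.card_le_card_of_injective (fun o => match o with
        | none => (1 : Z)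
        | some y => ⟨y.1, by
            obtain ⟨g, hg⟩ := isConj_iff.1 y.2
            rw [← hg]
            exact hn.conj_mem t ht g⟩) ?_
      have hne : ∀ y : {y : H // IsConj t y}, (y : H) ≠ 1 := by
        rintro ⟨y, hy⟩ h4
        have h5 : y = 1 := h4
        rw [h5] at hy
        exact ht1 (isConj_one_left.1 hy)
      rintro (_ | a) (_ | b) hab
      · rfl
      · exact absurd (congrArg (Subtype.val : Z → H) hab).symm (hne b)
      · exact absurd (congrArg (Subtype.val : Z → H) hab) (hne a)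
      · have h6 : (a : H) = b := congrArg (Subtype.val : Z → H) hab
        rw [Subtype.ext h6]
    have h4 : Nat.card (Option {y : H // IsConj t y}) = Nat.card {y : H // IsConj t y} + 1 := Finite.card_option
    omega
  calc Nat.card H = _ := h1.symm
    _ ≤ m * c := Nat.mul_le_mul h2 hc

theorem pCore_eq_bot_of_odd (h : ¬ 2 ∣ Nat.card H) : pCore 2 H = ⊥ := by
  have hF : Fact (Nat.Prime 2) := ⟨Nat.prime_two⟩
  obtain ⟨n, hn⟩ := IsPGroup.iff_card.1 (Lib.Cores.pCore_isPGroup (G := H) 2)
  apply card_eq_one.1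
  rcases Nat.eq_zero_or_pos n with h0 | h0
  · rw [hn, h0, pow_zero]
  · have h1 : 2 ∣ Nat.card (pCore 2 H) := by rw [hn]; exact dvd_pow_self 2 h0.ne'
    exact absurd (h1.trans (card_subgroup_dvd_card _)) h

theorem pCore_eq_bot_of_le {W : Subgroup H} (hW : ¬ 2 ∣ Nat.card W) (hle : pCore 2 H ≤ W) : pCore 2 H = ⊥ := by
  have hF : Fact (Nat.Prime 2) := ⟨Nat.prime_two⟩
  obtain ⟨n, hn⟩ := IsPGroup.iff_card.1 (Lib.Cores.pCore_isPGroup (G := H) 2)
  apply card_eq_one.1
  rcases Nat.eq_zero_or_pos n with h0 | h0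
  · rw [hn, h0, pow_zero]
  · have h1 : 2 ∣ Nat.card (pCore 2 H) := by rw [hn]; exact dvd_pow_self 2 h0.ne'
    exact absurd (h1.trans (card_dvd_of_le hle)) hW

theorem pCore_eq_bot_of_core {q : ℕ} (hq : q.Prime) (hq2 : q ≠ 2) (h : ¬ 2 ∣ Nat.card (pPrimeCore q H)) :
    pCore 2 H = ⊥ := by
  have hF : Fact (Nat.Prime 2) := ⟨Nat.prime_two⟩
  refine pCore_eq_bot_of_le h (Lib.Cores.le_pPrimeCore (Lib.Cores.pCore_normal 2) ?_)
  obtain ⟨n, hn⟩ := IsPGroup.iff_card.1 (Lib.Cores.pCore_isPGroup (G := H) 2)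
  rw [hn]
  exact Nat.Coprime.pow_left _ ((Nat.coprime_primes Nat.prime_two hq).2 hq2.symm)

theorem pCore_eq_bot_of_quot {W : Subgroup H} [W.Normal] (hW : ¬ 2 ∣ Nat.card W) (hs : IsSimpleGroup (H ⧸ W))
    (h2 : ¬ IsPGroup 2 (H ⧸ W)) : pCore 2 H = ⊥ := by
  have hn : ((pCore 2 H).map (QuotientGroup.mk' W)).Normal :=
    (Lib.Cores.pCore_normal (G := H) 2).map _ (QuotientGroup.mk'_surjective W)
  rcases hn.eq_bot_or_eq_top with h | h
  · refine pCore_eq_bot_of_le hW ?_
    have := (Subgroup.map_eq_bot_iff _).1 h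
    rwa [QuotientGroup.ker_mk'] at this
  · exfalso
    apply h2
    have h3 := (Lib.Cores.pCore_isPGroup (G := H) 2).map (QuotientGroup.mk' W)
    rw [h] at h3
    intro g
    obtain ⟨k, hk⟩ := h3 ⟨g, mem_top g⟩
    exact ⟨k, congrArg Subtype.val hk⟩

end

/-- conjugate elements -/
theorem pCore_conj {H : Type*} [Group H] {p : ℕ} (g x : H) (h : pCore p ↥(centralizer ({g * x * g⁻¹} : Set H)) = ⊥) :
    pCore p ↥(centralizer ({x} : Set H)) = ⊥ := by
  have h1 : (MulAut.conj g) x = g * x * g⁻¹ := rfl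
  rw [← h1] at h
  exact pCore_equiv (centEquiv (MulAut.conj g) x).symm h

/-- isomorphic groups -/
noncomputable def centEquiv' {L : Type*} {M : Type*} [Group L] [Group M] (e : L ≃* M) (y : L) :
    ↥(centralizer ({y} : Set L)) ≃* ↥(centralizer ({e y} : Set M)) :=
  (e.subgroupMap (centralizer ({y} : Set L))).trans (MulEquiv.subgroupCongr (by
    ext g
    rw [mem_centralizer_singleton_iff]
    constructor
    · rintro ⟨s, hs, rfl⟩
      have h1 := mem_centralizer_singleton_iff.1 hs
      change e s * e y = e y * e s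
      rw [← map_mul, ← map_mul, h1]
    · intro h
      refine ⟨e.symm g, ?_, e.apply_symm_apply g⟩
      change e.symm g ∈ centralizer ({y} : Set L)
      rw [mem_centralizer_singleton_iff]
      apply e.injective
      rw [map_mul, map_mul, e.apply_symm_apply]
      exact h))

theorem FactA.congr {L M : Type*} [Group L] [Group M] (e : L ≃* M) (h : FactA M) : FactA L := by
  obtain ⟨Q, hQ, hw⟩ := h
  have hc : Nat.card (Q.map e.symm.toMonoidHom) = Nat.card Q := card_map_of_injective e.symm.injective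
  refine ⟨Q.map e.symm.toMonoidHom, by rwa [hc], fun w hwp hw2 => ?_⟩
  have ho : orderOf (e w) = orderOf w := MulEquiv.orderOf_eq e w
  rcases hw (e w) (by rwa [ho]) (by rwa [ho]) with h1 | h1
  · exact Or.inl (pCore_equiv (centEquiv' e w).symm h1)
  · right
    rw [hc, Nat.card_congr (centEquiv' e w).toEquiv]
    exact h1

universe u v

open Cfsg.Agent.H652.Four in
open Cfsg.Agent.Blocks.LocalRing in
/-- The case of one class, given in an isomorphic group. -/
theorem factB_of_equiv {L : Type u} {M : Type v} [Group L] [Group M] [Finite L] (e : L ≃* M) {y : M} (hy : y ≠ 1)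
    (hO : pCore 2 ↥(centralizer ({y} : Set M)) = ⊥) (hinv : ∀ β : MulAut M, IsConj y (β y))
    (hN : ∀ I : Ideal AlgInt, IsPModular 2 I → NN I (cl y)) : FactB L := by
  refine FactB.of_cl (y := e.symm y) ?_ (pCore_equiv (centEquiv' e.symm y) hO) (fun β => ?_) (fun I hI => ?_)
  · intro h
    exact hy (by rw [← e.apply_symm_apply y, h, map_one])
  · have h1 := hinv (e.symm.trans (β.trans e))
    have h2 := e.symm.toMonoidHom.map_isConj h1
    have h3 : e.symm.toMonoidHom ((e.symm.trans (β.trans e)) y) = β (e.symm y) := by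
      change e.symm (e (β (e.symm y))) = β (e.symm y)
      rw [e.symm_apply_apply]
    rw [h3] at h2
    exact h2
  · refine NN.of_equiv e ?_
    rw [e.apply_symm_apply]
    exact hN I hI

end Cfsg.Agent.H528.SuzTwo
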