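import Cfsg.Agent.H528.SuzTwo.Five
import Cfsg.Agent.H528.SuzTwo.Tools
import Cfsg.Agent.H265.SuzRow
import Cfsg.Agent.H326.Four.RowSuz
import Cfsg.Agent.BpSpor.SuzThree
import Cfsg.Agent.H278.ThompsonSurj

/-!
# S4095 at the prime 2: the row `Suz` (helper528, task 3096)

* `factA` : `Q = 3 ^ 5 : 11`; `O_2(C(w)) = 1` for `w` of order 3, `|C(w)| < |Q|` or `O_2(C(w)) = 1` for the others;
* `factB` : the class 3C, `C(y) = 3 ^ 2 . A₆`;
* `row`.
-/

set_option autoImplicit false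
set_option maxRecDepth 100000

namespace Cfsg.Agent.H528.SuzTwo

open Subgroup Cfsg Cfsg.Agent.H516 Cfsg.Agent.H509.Weak
open Cfsg.Spor (Suz IsoSuz)
open Cfsg.Agent.SuzThree.Elementary (A0 card_A0 cube_A0 comm_A0)
open Cfsg.Agent.SuzThree.NormElts (NA)
open Cfsg.Agent.SuzThree.Elts (Ix card_Ix)
open Cfsg.Agent.SuzThree.CentA (z0)
open Cfsg.Agent.SuzThree.QZero (Q0)
open Cfsg.Agent.KFacts.SuzLFour (L e0)
open Cfsg.Agent.KFacts.SuzTwoB (CE mem_CE card_CE)
open Cfsg.Agent.PreUniq.Spor.SuzP (E X card_E card_EX card_X simple_X E_le_L)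
open Cfsg.Agent.SporadicRecognition.SuzOrder (card_Suz)
open Cfsg.Agent.BpSpor.SuzFive (sqs card_A card_sqs_A card_two card_sqs_le)

theorem finSuz : Finite Suz := CTwoTab.Suz.finSuz

/-! ### `3 ^ 5 : 11` -/

theorem eleven_dvd : 11 ∣ Nat.card NA := by
  have h1 : MulAction.orbit NA Ix.i0 = Set.univ := by
    ext a
    refine ⟨fun _ => trivial, fun _ => ?_⟩
    exact ⟨Cfsg.Agent.SuzThree.NormAct.npr (Cfsg.Agent.SuzThree.FourTrans.tt0 a),
      (Cfsg.Agent.SuzThree.NormAct.npr_smul _ _).trans (Cfsg.Agent.SuzThree.FourTrans.lev0 a)⟩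
  have h2 : (MulAction.stabilizer NA Ix.i0).index = 11 := by
    rw [MulAction.index_stabilizer, h1, Set.ncard_univ, Nat.card_eq_fintype_card, card_Ix]
  rw [← h2]
  exact index_dvd_card _

theorem exists_Q : ∃ Q : Subgroup Suz, Nat.card Q = 2673 := by
  have hfin := finSuz
  have h11 : Fact (Nat.Prime 11) := ⟨by norm_num⟩
  obtain ⟨g, hg⟩ := exists_prime_orderOf_dvd_card' 11 eleven_dvd
  have hgo : orderOf (g : Suz) = 11 := by rw [Subgroup.orderOf_coe]; exact hg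
  have hle : zpowers (g : Suz) ≤ normalizer (A0 : Set Suz) := zpowers_le.2 g.2
  refine ⟨A0 ⊔ zpowers (g : Suz), ?_⟩
  have hcop : Nat.Coprime (Nat.card A0) (Nat.card (zpowers (g : Suz))) := by
    rw [card_A0, Nat.card_zpowers, hgo]
    norm_num
  have hdis : A0 ⊓ zpowers (g : Suz) = ⊥ := (Subgroup.disjoint_of_coprime_natCard hcop).eq_bot
  have h1 := Cfsg.Agent.H278.ThompsonSurj.card_sup_mul hle
  rw [hdis, card_bot, mul_one, card_A0, Nat.card_zpowers, hgo] at h1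
  exact h1

/-! ### elements of order 3 -/

theorem three {w : Suz} (hw : orderOf w = 3) : pCore 2 ↥(centralizer ({w} : Set Suz)) = ⊥ := by
  have hfin := finSuz
  have hw3 : w ^ 3 = 1 := by rw [← hw]; exact pow_orderOf_eq_one w
  obtain ⟨u, huu, hu1, huw⟩ := H265.SuzEven.exists_inv hw3
  rcases CTwoTab.Suz.classes huu hu1 with h | h
  · obtain ⟨g, hg⟩ := BpSpor.SuzThree.conj_A0' hw3 h huw.symm
    refine pCore_conj g w ?_
    exact pCore_eq_bot_of_core Nat.prime_three (by norm_num) (BpSpor.SuzThree.core_odd hg)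
  · obtain ⟨c, rfl⟩ := isConj_iff.1 h
    have e1 : orderOf (c⁻¹ * w * c) = 3 := by
      have h1 := CpAutSuz.Classes.orderOf_conj c⁻¹ w
      rw [inv_inv] at h1
      rw [h1, hw]
    have e2 : c⁻¹ * w * c * e0 = e0 * (c⁻¹ * w * c) := by
      calc c⁻¹ * w * c * e0 = c⁻¹ * (w * (c * e0 * c⁻¹)) * c := by group
        _ = e0 * (c⁻¹ * w * c) := by rw [← huw]; group
    obtain ⟨d, hd, hd1⟩ := CpAutSuz.ThreeC.exists_conj_ne e1 e2
    refine pCore_conj (d * c⁻¹) w ?_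
    have e3 : d * c⁻¹ * w * (d * c⁻¹)⁻¹ = d * (c⁻¹ * w * c) * d⁻¹ := by group
    rw [e3, CpAutSuz.ThreeC.centralizer_eq hd hd1]
    refine pCore_eq_bot_of_quot (W := E.subgroupOf X) (by rw [card_EX]; norm_num) simple_X ?_
    intro h2
    have hF : Fact (Nat.Prime 2) := ⟨Nat.prime_two⟩
    obtain ⟨n, hn⟩ := IsPGroup.iff_card.1 h2
    rw [CpAutSuz.ThreeC.card_quot] at hn
    have h5 : (5 : ℕ) ∣ 2 ^ n := by rw [← hn]; norm_num
    have h6 := (by norm_num : Nat.Prime 5).dvd_of_dvd_pow h5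
    norm_num at h6

/-! ### elements of order 5 -/

/-- elementary abelian 2-subgroups of `C(z0) ∩ C(x)` -/
theorem card_elem {x : Suz} (hx : orderOf x = 5) (hxz : x * z0 = z0 * x) {T : Subgroup Suz}
    (hTs : ∀ t ∈ T, t * t = 1) (hTz : ∀ t ∈ T, t * z0 = z0 * t) (hTx : ∀ t ∈ T, t * x = x * t) : Nat.card T ≤ 16 := by
  have hfin := finSuz
  have hF : Fact (Nat.Prime 2) := ⟨Nat.prime_two⟩
  have hl := KFacts.SuzLarge.large
  have hQ : Nat.card ↥Q0 = 2 ^ 7 := Cfsg.Agent.KFacts.SuzR.card_R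
  have hT2 : IsPGroup 2 T := fun t => ⟨1, Subtype.ext (by
    rw [pow_one, pow_two]
    exact hTs t t.2)⟩
  set A := Q0 ⊓ centralizer ({x} : Set Suz) with hA
  have hAc : Nat.card ↥A = 8 := card_A hl hQ hx hxz
  have hTA : ∀ t ∈ T, ∀ y ∈ A, t * y * t⁻¹ ∈ A := by
    rintro t ht y ⟨hy, hyx⟩
    refine ⟨hl.conj_mem t (hTz t ht) y hy, mem_centralizer_singleton_iff.2 ?_⟩
    replace hyx := mem_centralizer_singleton_iff.1 hyx
    have htx := hTx t ht
    have e1 : t⁻¹ * x = x * t⁻¹ := by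
      rw [inv_mul_eq_iff_eq_mul, ← mul_assoc, htx, mul_assoc, mul_inv_cancel, mul_one]
    calc t * y * t⁻¹ * x = t * y * (t⁻¹ * x) := by group
      _ = t * (y * x) * t⁻¹ := by rw [e1]; group
      _ = (t * x) * y * t⁻¹ := by rw [hyx]; group
      _ = x * (t * y * t⁻¹) := by rw [htx]; group
  have hTN : T ≤ normalizer (A : Set Suz) := by
    intro t ht
    refine mem_normalizer_iff.2 fun y => ⟨fun hy => hTA t ht y hy, fun hy => ?_⟩
    have h3 := hTA t⁻¹ (inv_mem ht) _ hy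
    have h4 : t⁻¹ * (t * y * t⁻¹) * t⁻¹⁻¹ = y := by group
    rwa [h4] at h3
  have hA2 : IsPGroup 2 A := IsPGroup.of_card (n := 3) (by rw [hAc]; norm_num)
  have hS2 : IsPGroup 2 ↥(T ⊔ A) := hT2.to_sup_of_normal_right' hA2 hTN
  have hmem : ∀ s ∈ T ⊔ A, s ∈ centralizer ({z0} : Set Suz) ⊓ centralizer ({x} : Set Suz) := by
    intro s hs
    have hle : T ⊔ A ≤ centralizer ({z0} : Set Suz) ⊓ centralizer ({x} : Set Suz) := by
      refine sup_le (fun t ht => ⟨mem_centralizer_singleton_iff.2 (hTz t ht), mem_centralizer_singleton_iff.2 (hTx t ht)⟩) ?_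
      rintro y ⟨hy, hyx⟩
      exact ⟨mem_centralizer_singleton_iff.2 (hl.comm_z y hy), hyx⟩
    exact hle hs
  have h32 := card_two hl hQ hx hxz hS2 (fun s hs => mem_centralizer_singleton_iff.1 (hmem s hs).1)
    (fun s hs => mem_centralizer_singleton_iff.1 (hmem s hs).2)
  have hT32 : Nat.card T ∣ 2 ^ 5 := (card_dvd_of_le le_sup_left).trans (h32.trans (by norm_num))
  obtain ⟨k, hk, hk'⟩ := (Nat.dvd_prime_pow Nat.prime_two).1 hT32
  by_contra hlt
  have hk5 : k = 5 := by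
    by_contra hne
    apply hlt
    rw [hk']
    calc 2 ^ k ≤ 2 ^ 4 := Nat.pow_le_pow_right (by norm_num) (by omega)
      _ = 16 := by norm_num
  subst hk5
  have hTS : T = T ⊔ A := by
    refine eq_of_le_of_card_ge le_sup_left ?_
    rw [hk']
    exact Nat.le_of_dvd (by norm_num) (h32.trans (by norm_num))
  have hAT : A ≤ T := by
    rw [hTS]
    exact le_sup_right
  have h6 := card_sqs_A hl hQ card_sqs_Q0 hx hxz
  have h8 : Nat.card ↥A ≤ Nat.card ↥(sqs A) :=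
    Nat.card_le_card_of_injective (fun y : ↥A => (⟨y.1, y.2, hTs _ (hAT y.2)⟩ : ↥(sqs A))) fun a b hab => by
      apply Subtype.ext
      exact congrArg (fun u : ↥(sqs A) => (u : Suz)) hab
  rw [hAc, h6] at h8
  norm_num at h8

/-- the centralizer of `t` in `C(w)` -/
theorem card_cent_le {w j c : Suz} {t : ↥(centralizer ({w} : Set Suz))} (hc : c * j * c⁻¹ = (t : Suz)) :
    Nat.card (centralizer ({t} : Set ↥(centralizer ({w} : Set Suz)))) ≤
      Nat.card ↥(centralizer ({j} : Set Suz) ⊓ centralizer ({c⁻¹ * w * c} : Set Suz)) := by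
  have hfin := finSuz
  refine Nat.card_le_card_of_injective (fun y => ⟨c⁻¹ * ((y : ↥(centralizer ({w} : Set Suz))) : Suz) * c, ?_, ?_⟩) ?_
  · have h1 : ((y : ↥(centralizer ({w} : Set Suz))) : Suz) * (t : Suz) = (t : Suz) * ((y : ↥(centralizer ({w} : Set Suz))) : Suz) :=
      congrArg Subtype.val (mem_centralizer_singleton_iff.1 y.2)
    rw [← hc] at h1
    refine mem_centralizer_singleton_iff.2 ?_
    generalize ((y : ↥(centralizer ({w} : Set Suz))) : Suz) = s at h1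
    calc c⁻¹ * s * c * j = c⁻¹ * (s * (c * j * c⁻¹)) * c := by group
      _ = j * (c⁻¹ * s * c) := by rw [h1]; group
  · have h1 := mem_centralizer_singleton_iff.1 (y : ↥(centralizer ({w} : Set Suz))).2
    refine mem_centralizer_singleton_iff.2 ?_
    generalize ((y : ↥(centralizer ({w} : Set Suz))) : Suz) = s at h1
    calc c⁻¹ * s * c * (c⁻¹ * w * c) = c⁻¹ * (s * w) * c := by group
      _ = c⁻¹ * w * c * (c⁻¹ * s * c) := by rw [h1]; group
  · intro a b hab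
    apply Subtype.ext
    apply Subtype.ext
    have h1 : c⁻¹ * ((a : ↥(centralizer ({w} : Set Suz))) : Suz) * c = c⁻¹ * ((b : ↥(centralizer ({w} : Set Suz))) : Suz) * c :=
      congrArg Subtype.val hab
    exact mul_left_cancel (mul_right_cancel h1)

theorem five {w : Suz} (hw : orderOf w = 5) :
    pCore 2 ↥(centralizer ({w} : Set Suz)) = ⊥ ∨ Nat.card (centralizer ({w} : Set Suz)) ≤ 2400 := by
  have hfin := finSuz
  have hF : Fact (Nat.Prime 2) := ⟨Nat.prime_two⟩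
  by_cases hb : pCore 2 ↥(centralizer ({w} : Set Suz)) = ⊥
  · exact Or.inl hb
  right
  obtain ⟨Z, hZn, hZ2, hZ1, hZs⟩ := exists_elem hb
  obtain ⟨⟨t, htZ⟩, ht1⟩ := (Subgroup.ne_bot_iff_exists_ne_one).1 hZ1
  have ht1' : t ≠ 1 := fun h => ht1 (Subtype.ext h)
  have htt : (t : Suz) * (t : Suz) = 1 := congrArg Subtype.val (hZs t htZ)
  have htn : (t : Suz) ≠ 1 := fun h => ht1' (Subtype.ext h)
  have hZc : ∀ a ∈ Z, ∀ b ∈ Z, a * b = b * a := by
    intro a ha b hb'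
    have h1 := hZs a ha
    have h2 := hZs b hb'
    have h3 := hZs _ (mul_mem ha hb')
    have h4 : a⁻¹ = a := inv_eq_of_mul_eq_one_left h1
    have h5 : b⁻¹ = b := inv_eq_of_mul_eq_one_left h2
    calc a * b = (a * b)⁻¹ := (inv_eq_of_mul_eq_one_left h3).symm
      _ = b * a := by rw [mul_inv_rev, h4, h5]
  have htw : (t : Suz) * w = w * (t : Suz) := mem_centralizer_singleton_iff.1 t.2
  -- everything conjugated by `c⁻¹`
  have key : ∀ j c : Suz, c * j * c⁻¹ = (t : Suz) → orderOf (c⁻¹ * w * c) = 5 ∧ (c⁻¹ * w * c) * j = j * (c⁻¹ * w * c) ∧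
      ∃ T : Subgroup Suz, Nat.card T = Nat.card Z ∧ (∀ s ∈ T, s * s = 1) ∧ (∀ s ∈ T, s * j = j * s) ∧
        ∀ s ∈ T, s * (c⁻¹ * w * c) = (c⁻¹ * w * c) * s := by
    intro j c hc
    refine ⟨?_, ?_, (Z.map (centralizer ({w} : Set Suz)).subtype).map (MulAut.conj c⁻¹).toMonoidHom, ?_, ?_, ?_, ?_⟩
    · have h1 := CpAutSuz.Classes.orderOf_conj c⁻¹ w
      rw [inv_inv] at h1
      rw [h1, hw]
    · calc c⁻¹ * w * c * j = c⁻¹ * (w * (c * j * c⁻¹)) * c := by group
        _ = j * (c⁻¹ * w * c) := by rw [hc, ← htw, ← hc]; group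
    · rw [card_map_of_injective (MulAut.conj c⁻¹).injective, card_map_of_injective (subtype_injective _)]
    · rintro _ ⟨_, ⟨z, hz, rfl⟩, rfl⟩
      have h1 : (z : Suz) * (z : Suz) = 1 := congrArg Subtype.val (hZs z hz)
      change c⁻¹ * (z : Suz) * c⁻¹⁻¹ * (c⁻¹ * (z : Suz) * c⁻¹⁻¹) = 1
      calc c⁻¹ * (z : Suz) * c⁻¹⁻¹ * (c⁻¹ * (z : Suz) * c⁻¹⁻¹) = c⁻¹ * ((z : Suz) * (z : Suz)) * c := by group
        _ = 1 := by rw [h1]; group
    · rintro _ ⟨_, ⟨z, hz, rfl⟩, rfl⟩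
      have h1 : (z : Suz) * (t : Suz) = (t : Suz) * (z : Suz) := congrArg Subtype.val (hZc z hz t htZ)
      rw [← hc] at h1
      change c⁻¹ * (z : Suz) * c⁻¹⁻¹ * j = j * (c⁻¹ * (z : Suz) * c⁻¹⁻¹)
      calc c⁻¹ * (z : Suz) * c⁻¹⁻¹ * j = c⁻¹ * ((z : Suz) * (c * j * c⁻¹)) * c := by group
        _ = j * (c⁻¹ * (z : Suz) * c⁻¹⁻¹) := by rw [h1]; group
    · rintro _ ⟨_, ⟨z, hz, rfl⟩, rfl⟩
      have h1 : (z : Suz) * w = w * (z : Suz) := mem_centralizer_singleton_iff.1 z.2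
      change c⁻¹ * (z : Suz) * c⁻¹⁻¹ * (c⁻¹ * w * c) = c⁻¹ * w * c * (c⁻¹ * (z : Suz) * c⁻¹⁻¹)
      calc c⁻¹ * (z : Suz) * c⁻¹⁻¹ * (c⁻¹ * w * c) = c⁻¹ * ((z : Suz) * w) * c := by group
        _ = c⁻¹ * w * c * (c⁻¹ * (z : Suz) * c⁻¹⁻¹) := by rw [h1]; group
  rcases CTwoTab.Suz.classes htt htn with h | h
  · obtain ⟨c, hc⟩ := isConj_iff.1 h
    obtain ⟨e1, e2, T, hT, hTs, hTz, hTx⟩ := key z0 c hc
    have h1 := card_elem e1 e2 hTs hTz hTx
    have h2 := Nat.le_of_dvd (by norm_num) (card_z0 e1 e2)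
    have h3 := card_le_orbit hZn htZ ht1' (m := 15) (c := 160) (by rw [← hT]; exact h1) ((card_cent_le hc).trans h2)
    exact h3.trans (by norm_num)
  · obtain ⟨c, hc⟩ := isConj_iff.1 h
    obtain ⟨e1, e2, T, hT, hTs, hTz, hTx⟩ := key e0 c hc
    have h4 := card_e0 e1 e2
    have h1 : Nat.card T ≤ 8 := by
      have hT2 : IsPGroup 2 T := fun t => ⟨1, Subtype.ext (by
        rw [pow_one, pow_two]
        exact hTs t t.2)⟩
      obtain ⟨k, hk⟩ := IsPGroup.iff_card.1 hT2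
      have h5 : Nat.card T ∣ 8 * 5 :=
        (card_dvd_of_le (H := T) (K := centralizer ({e0} : Set Suz) ⊓ centralizer ({c⁻¹ * w * c} : Set Suz))
          (fun s hs => ⟨mem_centralizer_singleton_iff.2 (hTz s hs), mem_centralizer_singleton_iff.2 (hTx s hs)⟩)).trans h4
      rw [hk] at h5 ⊢
      have h6 : Nat.Coprime (2 ^ k) 5 := Nat.Coprime.pow_left k (by norm_num)
      exact Nat.le_of_dvd (by norm_num) (h6.dvd_of_dvd_mul_right h5)
    have h2 := Nat.le_of_dvd (by norm_num) h4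
    have h3 := card_le_orbit hZn htZ ht1' (m := 7) (c := 40) (by rw [← hT]; exact h1) ((card_cent_le hc).trans h2)
    exact h3.trans (by norm_num)

/-! ### elements of order 7, 11, 13 -/

theorem seven {w : Suz} (hw : orderOf w = 7) : Nat.card (centralizer ({w} : Set Suz)) ≤ 504 := by
  have hfin := finSuz
  obtain ⟨S, hS⟩ := H812.SuzSeven.sylow_zpowers hw
  have h1 := (H812.SuzSeven.main (⟨MulEquiv.refl _⟩ : IsoSuz Suz) S).2
  rw [← h1, hS, ← H812.Transport.centralizer_zpowers]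
  exact card_le_of_le (J2Type.SylowSeven.centralizer_le_normalizer' (zpowers w))

theorem big {w : Suz} {l : ℕ} (hl : l = 11 ∨ l = 13) (hw : orderOf w = l) :
    pCore 2 ↥(centralizer ({w} : Set Suz)) = ⊥ := by
  have hfin := finSuz
  have hF : Fact (Nat.Prime 2) := ⟨Nat.prime_two⟩
  refine pCore_eq_bot_of_odd fun h => ?_
  obtain ⟨t, ht⟩ := exists_prime_orderOf_dvd_card' 2 h
  have hto : orderOf (t : Suz) = 2 := by rw [Subgroup.orderOf_coe]; exact ht
  have htt : (t : Suz) * (t : Suz) = 1 := by rw [← pow_two, ← hto, pow_orderOf_eq_one]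
  have ht1 : (t : Suz) ≠ 1 := by
    intro h0
    rw [h0, orderOf_one] at hto
    omega
  have htw : (t : Suz) * w = w * (t : Suz) := mem_centralizer_singleton_iff.1 t.2
  have h1 : l ∣ Nat.card (centralizer ({(t : Suz)} : Set Suz)) := by
    have h2 := orderOf_dvd_natCard (⟨w, mem_centralizer_singleton_iff.2 htw.symm⟩ : centralizer ({(t : Suz)} : Set Suz))
    rwa [Subgroup.orderOf_mk, hw] at h2
  rcases CTwoTab.Suz.classes htt ht1 with h2 | h2
  · obtain ⟨c, hc⟩ := isConj_iff.1 h2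
    have h4 : Nat.card ↥(centralizer ({z0} : Set Suz)) = 3317760 := KFacts.SuzCent.card_C1
    rw [← hc, H265.SuzCent.card_conj, h4] at h1
    rcases hl with rfl | rfl <;> norm_num at h1
  · obtain ⟨c, hc⟩ := isConj_iff.1 h2
    have h4 : Nat.card ↥(centralizer ({e0} : Set Suz)) = 161280 := card_CE
    rw [← hc, H265.SuzCent.card_conj, h4] at h1
    rcases hl with rfl | rfl <;> norm_num at h1

/-- **the first fact** -/
theorem factA : FactA Suz := by
  have hfin := finSuz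
  obtain ⟨Q, hQ⟩ := exists_Q
  refine ⟨Q, by rw [hQ]; decide, fun w hw hw2 => ?_⟩
  have h := orderOf_dvd_natCard w
  rw [card_Suz] at h
  rcases H265.SuzCent.prime_cases hw h with h | h | h | h | h | h
  · exact absurd h hw2
  · exact Or.inl (three h)
  · rcases five h with h1 | h1
    · exact Or.inl h1
    · right
      rw [hQ]
      omega
  · right
    rw [hQ]
    have := seven h
    omega
  · exact Or.inl (big (Or.inl rfl) h)
  · exact Or.inl (big (Or.inr rfl) h)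

/-! ### the class 3C -/

theorem exists_E {w t : Suz} (hw : orderOf w = 3) (ht : IsConj e0 t) (h : w * t = t * w) :
    ∃ d : Suz, d * w * d⁻¹ ∈ E ∧ d * w * d⁻¹ ≠ 1 := by
  obtain ⟨c, rfl⟩ := isConj_iff.1 ht
  have e1 : orderOf (c⁻¹ * w * c) = 3 := by
    have h1 := CpAutSuz.Classes.orderOf_conj c⁻¹ w
    rw [inv_inv] at h1
    rw [h1, hw]
  have e2 : c⁻¹ * w * c * e0 = e0 * (c⁻¹ * w * c) := by
    calc c⁻¹ * w * c * e0 = c⁻¹ * (w * (c * e0 * c⁻¹)) * c := by group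
      _ = e0 * (c⁻¹ * w * c) := by rw [h]; group
  obtain ⟨d, hd, hd1⟩ := CpAutSuz.ThreeC.exists_conj_ne e1 e2
  have e3 : d * c⁻¹ * w * (d * c⁻¹)⁻¹ = d * (c⁻¹ * w * c) * d⁻¹ := by group
  exact ⟨d * c⁻¹, by rw [e3]; exact hd, by rw [e3]; exact hd1⟩

theorem orderOf_E {x : Suz} (hx : x ∈ E) (hx1 : x ≠ 1) : orderOf x = 3 :=
  have : Fact (Nat.Prime 3) := ⟨Nat.prime_three⟩
  orderOf_eq_prime (CpAutSuz.ThreeC.cube_E hx) hx1

theorem conj_E {x y : Suz} (hx : x ∈ E) (hx1 : x ≠ 1) (hy : y ∈ E) (hy1 : y ≠ 1) : IsConj x y := by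
  have h1 : IsConj (H326.Four.RowSuz.isoL ⟨x, E_le_L hx⟩) (H326.Four.RowSuz.isoL ⟨y, E_le_L hy⟩) := by
    refine H326.Four.conj_three ?_ ?_
    · rw [MulEquiv.orderOf_eq, Subgroup.orderOf_mk]
      exact orderOf_E hx hx1
    · rw [MulEquiv.orderOf_eq, Subgroup.orderOf_mk]
      exact orderOf_E hy hy1
  have h2 := (L.subtype.comp H326.Four.RowSuz.isoL.symm.toMonoidHom).map_isConj h1
  have h3 : ∀ a : L, (L.subtype.comp H326.Four.RowSuz.isoL.symm.toMonoidHom) (H326.Four.RowSuz.isoL a) = (a : Suz) := by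
    intro a
    change ((H326.Four.RowSuz.isoL.symm (H326.Four.RowSuz.isoL a) : L) : Suz) = a
    rw [MulEquiv.symm_apply_apply]
  rw [h3, h3] at h2
  exact h2

theorem aut_e0 (β : MulAut Suz) : IsConj e0 (β e0) := by
  have h1 : β e0 * β e0 = 1 := by rw [← map_mul, KFacts.SuzLFour.e0_sq, map_one]
  have h2 : β e0 ≠ 1 := by
    intro h
    have h3 : e0 = 1 := β.injective (by rw [h, map_one])
    have h4 := Cfsg.Agent.PreUniq.Spor.SuzP.ord_e0
    rw [h3, orderOf_one] at h4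
    omega
  rcases CTwoTab.Suz.classes h1 h2 with h | h
  · exfalso
    obtain ⟨c, hc⟩ := isConj_iff.1 h
    have h3 : Nat.card ↥(centralizer ({z0} : Set Suz)) = 3317760 := KFacts.SuzCent.card_C1
    have h4 : Nat.card ↥(centralizer ({e0} : Set Suz)) = 161280 := card_CE
    have h5 := H265.SuzRow.card_centralizer_equiv β e0
    rw [← hc, H265.SuzCent.card_conj, h3, h4] at h5
    omega
  · exact h

theorem exists_y : ∃ y : Suz, y ∈ E ∧ y ≠ 1 := by
  obtain ⟨⟨y, hy⟩, hy1⟩ := (Subgroup.ne_bot_iff_exists_ne_one).1 Cfsg.Agent.PreUniq.Spor.SuzP.E_ne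
  exact ⟨y, hy, fun h => hy1 (Subtype.ext h)⟩

universe u

/-- **the second fact** -/
theorem factB {G : Type u} [Group G] [Finite G] (e : G ≃* Suz) : FactB G := by
  have hfin := finSuz
  obtain ⟨y, hy, hy1⟩ := exists_y
  have hy3 := orderOf_E hy hy1
  have hye : y * e0 = e0 * y := (Cfsg.Agent.PreUniq.Spor.SuzP.comm_X Cfsg.Agent.PreUniq.Spor.SuzP.e0X hy)
  refine factB_of_equiv e hy1 (three hy3) (fun β => ?_) (fun M hM => ?_)
  · have h1 : orderOf (β y) = 3 := by rw [MulEquiv.orderOf_eq]; exact hy3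
    have h2 : β y * β e0 = β e0 * β y := by rw [← map_mul, hye, map_mul]
    obtain ⟨d, hd, hd1⟩ := exists_E h1 (aut_e0 β) h2
    exact (conj_E hy hy1 hd hd1).trans (isConj_iff.2 ⟨d, rfl⟩).symm
  · refine H326.Four.nn_of_cent hM (P := KFacts.SuzLFour.V) (IsPGroup.of_card (n := 2) (by
        rw [KFacts.SuzLFour.card_V]; norm_num)) (by
        rw [H326.Four.RowSuz.cent_eq]
        exact KFacts.SuzTwoB.V_le) H326.Four.RowSuz.pr H326.Four.RowSuz.pr_surjective H326.Four.RowSuz.pr_ker hy3 ?_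
    refine mem_centralizer_iff.2 fun v hv => ?_
    exact KFacts.SuzLFour.V_comm v hv y (E_le_L hy)

/-- **The row `Suz` of S4095 at the prime 2.** -/
theorem row {G : Type u} [Group G] [Finite G] (h : IsoSuz G) (B : Base G) : Row 2 G := by
  obtain ⟨e⟩ := h
  exact row_of_facts B (FactA.congr e factA) (factB e)

end Cfsg.Agent.H528.SuzTwo
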